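import Groth.Agent.S8368
import Groth.Agent.Lib.KoszulColon.BaseChange
import Mathlib

/-! # Lifting Koszul regular sequences with flat quotient along nilpotent ideals -/

set_option autoImplicit false

universe u

open TensorProduct

namespace GrothLib.KoszulNil4

theorem flat_of_semilinear {R S M N : Type u} [CommRing R] [CommRing S] [AddCommGroup M] [AddCommGroup N]
    [Module R M] [Module S N] (σ : R ≃+* S) (e : M ≃+ N) (he : ∀ r m, e (r • m) = σ r • e m)
    [Module.Flat R M] : Module.Flat S N := by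
  rw [Module.Flat.iff_forall_isTrivialRelation]
  intro l f x h
  have h0 : ∑ i, σ.symm (f i) • e.symm (x i) = 0 := e.injective (by
    rw [map_sum, map_zero, ← h]
    exact Finset.sum_congr rfl fun i _ => by rw [he, σ.apply_symm_apply, e.apply_symm_apply])
  obtain ⟨k, a, y, hy, ha⟩ := Module.Flat.isTrivialRelation_of_sum_smul_eq_zero h0
  refine ⟨k, fun i j => σ (a i j), fun j => e (y j), fun i => ?_, fun j => ?_⟩
  · calc x i = e (e.symm (x i)) := (e.apply_symm_apply _).symm
      _ = _ := by rw [show e.symm (x i) = _ from hy i, map_sum]; exact Finset.sum_congr rfl fun j _ => he _ _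
  · have := congrArg σ (ha j)
    rw [map_sum, map_zero] at this
    simpa [map_mul] using this

/-- In a flat quotient, an ideal meets `I B` in `I J`. -/
theorem mem_smul_of_mem_map {A B : Type u} [CommRing A] [CommRing B] [Algebra A B] (I : Ideal A) (J : Ideal B)
    [Module.Flat A (B ⧸ J)] {x : B} (hx : x ∈ J) (hxI : x ∈ I.map (algebraMap A B)) :
    x ∈ I.map (algebraMap A B) * J := by
  rw [← Submodule.restrictScalars_mem A, ← Ideal.smul_top_eq_map] at hxI
  obtain ⟨s, hs⟩ : ∃ s : ↥I →₀ B, x = s.sum fun a r => (a : A) • r := by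
    refine Submodule.smul_induction_on hxI (fun a ha r _ => ⟨Finsupp.single ⟨a, ha⟩ r, by simp⟩) ?_
    rintro _ _ ⟨s, rfl⟩ ⟨t, rfl⟩
    exact ⟨s + t, by rw [Finsupp.sum_add_index' (by simp) (fun a b c => smul_add _ b c)]⟩
  let e := (Finset.equivFin s.support).symm
  have hx' : x = ∑ i, ((e i : ↥I) : A) • s (e i) := by
    rw [hs, Finsupp.sum, ← Finset.sum_coe_sort, ← e.sum_comp]
  have h0 : ∑ i, ((e i : ↥I) : A) • (Ideal.Quotient.mk J (s (e i))) = 0 := by
    have h1 := Ideal.Quotient.eq_zero_iff_mem.2 hx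
    rw [hx', map_sum] at h1
    exact h1
  obtain ⟨k, c, y, hy, hc⟩ := Module.Flat.isTrivialRelation_of_sum_smul_eq_zero (R := A) (M := B ⧸ J)
    (f := fun i => ((e i : ↥I) : A)) (x := fun i => Ideal.Quotient.mk J (s (e i))) (by exact h0)
  choose z hz using fun j => Ideal.Quotient.mk_surjective (y j)
  have hj : ∀ i, s (e i) - ∑ j, c i j • z j ∈ J := fun i => by
    rw [← Ideal.Quotient.eq_zero_iff_mem, map_sub, show Ideal.Quotient.mk J (s (e i)) = _ from hy i, map_sum,
      sub_eq_zero]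
    refine Finset.sum_congr rfl fun j _ => ?_
    rw [← hz j]; rfl
  have : x = ∑ i, algebraMap A B ((e i : ↥I) : A) * (s (e i) - ∑ j, c i j • z j) := by
    have h2 : ∑ i, ∑ j, algebraMap A B ((e i : ↥I) : A) * (c i j • z j) = 0 := by
      rw [Finset.sum_comm]
      refine Finset.sum_eq_zero fun j _ => ?_
      simp only [Algebra.smul_def, ← mul_assoc, ← map_mul, ← Finset.sum_mul, ← map_sum, hc, map_zero, zero_mul]
    simp only [mul_sub, Finset.mul_sum, Finset.sum_sub_distrib, h2, sub_zero]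
    rw [hx']
    exact Finset.sum_congr rfl fun i _ => Algebra.smul_def _ _
  rw [this]
  exact Ideal.sum_mem _ fun i _ => Ideal.mul_mem_mul (Ideal.mem_map_of_mem _ (e i : ↥I).2) (hj i)

/-- The lifting statement. -/
theorem regular_and_flat : ∀ (n : ℕ) (A B : Type u) [CommRing A] [CommRing B] [Algebra A B]
    [Module.Flat A B] (I : Ideal A) (_ : I ^ n = ⊥) (rs : List B),
    LCI.IsKoszulRegularSeq (B ⧸ I.map (algebraMap A B)) (rs.map (Ideal.Quotient.mk (I.map (algebraMap A B)))) →
    Module.Flat (A ⧸ I) ((B ⧸ I.map (algebraMap A B)) ⧸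
      Ideal.ofList (rs.map (Ideal.Quotient.mk (I.map (algebraMap A B))))) →
    LCI.IsKoszulRegularSeq B rs ∧ Module.Flat A (B ⧸ Ideal.ofList rs) := by
  intro n
  induction n using Nat.strong_induction_on with
  | _ n ih =>
    intro A B _ _ _ _ I hI rs hreg hflat
    by_cases hn : n ≤ 2
    · refine Groth.Agent.S8368.result A B I ?_ rs hreg hflat
      rw [← pow_two]
      exact le_bot_iff.1 (hI ▸ Ideal.pow_le_pow_right hn)
    -- the square-zero step
    let A₁ := A ⧸ I ^ 2
    let I₂ : Ideal B := (I ^ 2).map (algebraMap A B)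
    let B₁ := B ⧸ I₂
    haveI : Module.Flat A₁ B₁ := by
      haveI : Module.Flat A₁ (A₁ ⊗[A] B) := inferInstance
      exact Module.Flat.of_linearEquiv (Algebra.TensorProduct.quotIdealMapEquivQuotTensor (A := A) B (I ^ 2)).toLinearEquiv
    let J : Ideal A₁ := I.map (Ideal.Quotient.mk (I ^ 2))
    have hJ : J * J = ⊥ := by
      rw [← Ideal.map_mul, ← pow_two, Ideal.map_quotient_self]
    have hJB : J.map (algebraMap A₁ B₁) = (I.map (algebraMap A B)).map (Ideal.Quotient.mk I₂) := by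
      rw [Ideal.map_map, Ideal.map_map]; rfl
    have hle : I₂ ≤ I.map (algebraMap A B) := Ideal.map_mono (Ideal.pow_le_self two_ne_zero)
    let σA : A ⧸ I ≃+* A₁ ⧸ J :=
      (DoubleQuot.quotQuotEquivQuotOfLE (Ideal.pow_le_self two_ne_zero : I ^ 2 ≤ I)).symm
    let σB : B ⧸ I.map (algebraMap A B) ≃+* B₁ ⧸ J.map (algebraMap A₁ B₁) :=
      (DoubleQuot.quotQuotEquivQuotOfLE hle).symm.trans (Ideal.quotEquivOfEq hJB.symm)
    have hlist : (rs.map (Ideal.Quotient.mk (I.map (algebraMap A B)))).map σB.toRingHom =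
        (rs.map (Ideal.Quotient.mk I₂)).map (Ideal.Quotient.mk (J.map (algebraMap A₁ B₁))) := by
      rw [List.map_map, List.map_map]; rfl
    have hreg₁ : LCI.IsKoszulRegularSeq (B₁ ⧸ J.map (algebraMap A₁ B₁))
        ((rs.map (Ideal.Quotient.mk I₂)).map (Ideal.Quotient.mk (J.map (algebraMap A₁ B₁)))) :=
      hlist ▸ KoszulColon.isKoszulRegularSeq_map σB.toRingHom (RingHom.Flat.of_bijective σB.bijective) _ hreg
    let σQ : ((B ⧸ I.map (algebraMap A B)) ⧸ Ideal.ofList (rs.map (Ideal.Quotient.mk (I.map (algebraMap A B))))) ≃+*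
        ((B₁ ⧸ J.map (algebraMap A₁ B₁)) ⧸
          Ideal.ofList ((rs.map (Ideal.Quotient.mk I₂)).map (Ideal.Quotient.mk (J.map (algebraMap A₁ B₁))))) :=
      Ideal.quotientEquiv _ _ σB (by rw [← hlist, ← Ideal.map_ofList]; rfl)
    have hflat₁ : Module.Flat (A₁ ⧸ J) ((B₁ ⧸ J.map (algebraMap A₁ B₁)) ⧸
        Ideal.ofList ((rs.map (Ideal.Quotient.mk I₂)).map (Ideal.Quotient.mk (J.map (algebraMap A₁ B₁))))) := by
      refine flat_of_semilinear σA σQ.toAddEquiv fun r m => ?_
      obtain ⟨a, rfl⟩ := Ideal.Quotient.mk_surjective r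
      obtain ⟨m, rfl⟩ := Ideal.Quotient.mk_surjective m
      obtain ⟨b, rfl⟩ := Ideal.Quotient.mk_surjective m
      rfl
    obtain ⟨h1, h2⟩ := Groth.Agent.S8368.result A₁ B₁ J hJ (rs.map (Ideal.Quotient.mk I₂)) hreg₁ hflat₁
    exact ih ((n + 1) / 2) (by omega) A B (I ^ 2)
      (by rw [← pow_mul]; exact le_bot_iff.1 (hI ▸ Ideal.pow_le_pow_right (by omega))) rs h1 h2

end GrothLib.KoszulNil4
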